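import Groth.Agent.L25.Cocycle.Descend
import Groth.Agent.L25.Cocycle.Glue
import Groth.Agent.L25.GaPts
import Groth.Agent.L25.Locus.Transporter

/-!
# Groups of multiplicative type have no homomorphism to the additive group
-/

set_option autoImplicit false
universe u

open CategoryTheory CategoryTheory.Limits MonoidalCategory CartesianMonoidalCategory MonObj GrpObj
open AlgebraicGeometry

set_option backward.isDefEq.respectTransparency.types false

noncomputable section

namespace Groth.L25.MonoNhd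

open Groth.L25.Cocycle Groth.L25.GaPts

variable {S : Scheme.{u}} {R : Type u} [CommRing R] {j : Spec (CommRingCat.of R) ⟶ S} {H : Over S}
  [GrpObj H] {M : Type} [CommGroup M]

/-- the value at a character -/
def gaVal (e : Chart j H M) (u : H ⟶ Red.Ga S) {B : Type u} [CommRing B] [Algebra R B] (χ : M →* B) : B :=
  (Scheme.ΓSpecIso (CommRingCat.of B)).hom.hom (Red.gaFn (e.pt χ ≫ u))

theorem gaVal_map (e : Chart j H M) (u : H ⟶ Red.Ga S) {B D : Type u} [CommRing B] [Algebra R B]
    [CommRing D] [Algebra R D] (h : B →ₐ[R] D) (χ : M →* B) :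
    gaVal e u ((h : B →* D).comp χ) = h (gaVal e u χ) := by
  rw [gaVal, gaVal, ← e.nat, Category.assoc, gaFn_comp]
  exact congrArg (fun ψ => ψ.hom (Red.gaFn (e.pt χ ≫ u)))
    (Scheme.ΓSpecIso_naturality (CommRingCat.ofHom h.toRingHom))

theorem gaVal_mul (e : Chart j H M) (u : H ⟶ Red.Ga S) [IsMonHom u] {B : Type u} [CommRing B]
    [Algebra R B] (χ ψ : M →* B) : gaVal e u (χ * ψ) = gaVal e u χ + gaVal e u ψ := by
  rw [gaVal, gaVal, gaVal, e.pt_mul,
    show (e.pt χ * e.pt ψ) ≫ u = (e.pt χ ≫ u) * (e.pt ψ ≫ u) from MonObj.mul_comp _ _ _, gaFn_mul]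
  exact map_add _ _ _

theorem pt_comp_eq_one (e : Chart j H M) (u : H ⟶ Red.Ga S) [IsMonHom u] {B : Type u} [CommRing B]
    [Algebra R B] (χ : M →* B) : e.pt χ ≫ u = 1 := by
  classical
  let x : MonoidAlgebra B M := gaVal e u (MonoidAlgebra.of B M)
  have htw : ∀ {N : Type} [CommGroup N] (ψ : M →* MonoidAlgebra B N),
      gaVal e u ψ = twist (AlgHom.id R B) ψ x := by
    intro N _ ψ
    conv_lhs => rw [← twist_comp_of (AlgHom.id R B) ψ]
    exact gaVal_map e u _ _
  have hmap : ∀ (f : M →* M × M) (y : MonoidAlgebra B M),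
      twist (AlgHom.id R B) ((MonoidAlgebra.of B (M × M)).comp f) y = MonoidAlgebra.mapDomain f y := by
    intro f y
    induction y using MonoidAlgebra.induction_linear with
    | zero => simp
    | add p q hp hq => simp [hp, hq, MonoidAlgebra.mapDomain_add]
    | single a c =>
      simp [twist_single, MonoidAlgebra.coe_algebraMap, MonoidAlgebra.single_mul_single,
        MonoidAlgebra.mapDomain_single]
  have h1 : MonoidAlgebra.mapDomain ((MonoidHom.id M).prod (MonoidHom.id M)) x =
      MonoidAlgebra.mapDomain (MonoidHom.inl M M) x + MonoidAlgebra.mapDomain (MonoidHom.inr M M) x := by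
    rw [← hmap, ← hmap, ← hmap, ← htw, ← htw, ← htw, ← gaVal_mul]
    congr 1
    refine MonoidHom.ext fun m => ?_
    simp [MonoidAlgebra.single_mul_single]
  have hx : x = 0 := by
    refine MonoidAlgebra.ext (Finsupp.ext fun m => ?_)
    have h2 := congrArg (fun z => MonoidAlgebra.coeff z (m, m)) h1
    simp only [MonoidAlgebra.coeff_add, Finsupp.add_apply, MonoidAlgebra.coeff_mapDomain] at h2
    have hd : Function.Injective ((MonoidHom.id M).prod (MonoidHom.id M) : M → M × M) :=
      fun a b h => (Prod.ext_iff.1 h).1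
    rw [show ((m, m) : M × M) = ((MonoidHom.id M).prod (MonoidHom.id M)) m from rfl,
      Finsupp.mapDomain_apply hd] at h2
    rw [MonoidAlgebra.coeff_zero, Finsupp.zero_apply]
    by_cases hm : m = 1
    · subst hm
      have hl : Function.Injective (MonoidHom.inl M M : M → M × M) := fun a b h => (Prod.ext_iff.1 h).1
      have hr : Function.Injective (MonoidHom.inr M M : M → M × M) := fun a b h => (Prod.ext_iff.1 h).2
      rw [show ((MonoidHom.id M).prod (MonoidHom.id M)) 1 = MonoidHom.inl M M 1 from rfl, Finsupp.mapDomain_apply hl,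
        show MonoidHom.inl M M 1 = MonoidHom.inr M M 1 from rfl, Finsupp.mapDomain_apply hr,
        left_eq_add] at h2
      exact h2
    · rw [h2, Finsupp.mapDomain_of_notMem_range, Finsupp.mapDomain_of_notMem_range, add_zero]
      · rintro ⟨a, ha⟩
        exact hm (Prod.ext_iff.1 ha).1.symm
      · rintro ⟨a, ha⟩
        exact hm (Prod.ext_iff.1 ha).2.symm
  let f : MonoidAlgebra B M →ₐ[R] B := (MonoidAlgebra.lift B B M χ).restrictScalars R
  have h3 : gaVal e u χ = 0 := by
    have h4 : ((f : MonoidAlgebra B M →* B).comp (MonoidAlgebra.of B M)) = χ := by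
      refine MonoidHom.ext fun m => ?_
      simp [f]
    rw [← h4, gaVal_map]
    show f x = 0
    rw [hx, map_zero]
  apply gaFn_injective
  show Red.gaFn (e.pt χ ≫ u) = Red.gaFn 1
  rw [gaFn_one]
  exact (ConcreteCategory.bijective_of_isIso (Scheme.ΓSpecIso (CommRingCat.of B)).hom).1
    (h3.trans (map_zero _).symm)

theorem hom_ga_eq_one (hH : SGA3x.IsMultTypeFT H) (u : H ⟶ Red.Ga S) [IsMonHom u] : u = 1 := by
  apply Over.OverMorphism.ext
  choose V hV hzV _ using fun z : H.left => S.isBasis_affineOpens.exists_subset_of_mem_open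
    (show H.hom z ∈ (⊤ : S.Opens) from trivial) (⊤ : S.Opens).2
  choose V' hV' hVV using fun z => hV z
  have hD : ∀ z : H.left, ∃ D : H.left.Opens, IsAffineOpen D ∧ z ∈ D ∧ D ≤ H.hom ⁻¹ᵁ V' z := by
    intro z
    have hz : z ∈ H.hom ⁻¹ᵁ V' z := by
      show H.hom z ∈ (V' z : Set S)
      rw [show (V' z : Set S) = V z from hVV z]
      exact hzV z
    obtain ⟨_, ⟨D, hD, rfl⟩, hzD, hle⟩ := H.left.isBasis_affineOpens.exists_subset_of_mem_open hz
      (H.hom ⁻¹ᵁ V' z).2
    exact ⟨D, hD, hzD, hle⟩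
  choose D hDa hzD hle using hD
  refine (H.left.openCoverOfIsOpenCover D (TopologicalSpace.IsOpenCover.mk
    (top_le_iff.1 fun z _ => TopologicalSpace.Opens.mem_iSup.2 ⟨z, hzD z⟩))).hom_ext _ _ fun z => ?_
  change (D z).ι ≫ u.left = (D z).ι ≫ (1 : H ⟶ Red.Ga S).left
  rw [← cancel_epi (hDa z).isoSpec.inv, ← Category.assoc, ← Category.assoc, IsAffineOpen.isoSpec_inv_ι]
  have hr : Set.range ((hDa z).fromSpec ≫ H.hom) ⊆ Set.range (hV' z).fromSpec := by
    rw [(hV' z).range_fromSpec]
    rintro _ ⟨q, rfl⟩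
    exact hle z ((hDa z).range_fromSpec.le ⟨q, rfl⟩)
  let p := IsOpenImmersion.lift (hV' z).fromSpec ((hDa z).fromSpec ≫ H.hom) hr
  obtain ⟨F⟩ := exists_family (j := (hV' z).fromSpec) (Locus.locally_of_multTypeFT hH)
  refine Glue.ext_pts (θ := F.θ) (p := p) F.flat F.surj _ _ fun i B _ x => ?_
  letI := x.1.1.toAlgebra
  let t : X (Spec.map (CommRingCat.ofHom (F.θ i)) ≫ (hV' z).fromSpec) B ⟶ H :=
    Over.homMk (x.1.2 ≫ (hDa z).fromSpec) (by
      show (x.1.2 ≫ (hDa z).fromSpec) ≫ H.hom =
        Spec.map (CommRingCat.ofHom x.1.1) ≫ Spec.map _ ≫ (hV' z).fromSpec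
      rw [← reassoc_of% x.2]
      simp only [p, IsOpenImmersion.lift_fac, Category.assoc])
  obtain ⟨χ, hχ⟩ := ((F.chart i).bij B).2 t
  have h1 : t ≫ u = t ≫ (1 : H ⟶ Red.Ga S) := by
    rw [← hχ, pt_comp_eq_one, MonObj.comp_one]
  have h2 := congrArg (fun m => m.left) h1
  simp only [Over.comp_left, t, Over.homMk_left, Category.assoc] at h2
  exact h2

end Groth.L25.MonoNhd
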