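import Groth.Agent.L25.MonoNhd.Killed
import Groth.Agent.L25.MultType.KillTrivial
import Groth.Agent.L25.MultType.Torsion
import Groth.Agent.L25.Locus.Normalizer
import Groth.Agent.L25.TrivLocus
import Groth.Agent.L25.Central
import Mathlib.AlgebraicGeometry.Group.Affine
import Mathlib.RingTheory.Localization.BaseChange
import Mathlib.RingTheory.LocalRing.ResidueField.Ideal

/-!
# The kernel of a homomorphism out of a group of multiplicative type
-/

set_option autoImplicit false
universe u

open CategoryTheory CategoryTheory.Limits MonoidalCategory CartesianMonoidalCategory MonObj GrpObj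
open AlgebraicGeometry TensorProduct WithConv Opposite

set_option backward.isDefEq.respectTransparency.types false

noncomputable section

namespace Groth.L25.MonoNhd

/-- a torsion bound and a trivial fibre at `p` give triviality near `p` -/
theorem exists_kill {R B : Type u} [CommRing R] [CommRing B] [HopfAlgebra R B]
    [Algebra.FinitePresentation R B] [Coalgebra.IsCocomm R B] (p : Ideal R) [p.IsPrime]
    (hfin : ∀ n : ℕ, 0 < n → Module.Finite R (B ⧸ SGA3b.torsionIdeal R B n))
    (hfib : ∀ (Q : Type u) [CommRing Q] [Algebra R Q], (∀ r ∈ p, algebraMap R Q r = 0) →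
      (∀ r ∉ p, IsUnit (algebraMap R Q r)) →
      ∀ a : B →ₐ[R] Q, a = (Algebra.ofId R Q).comp (Bialgebra.counitAlgHom R B)) :
    ∃ f ∉ p, ∀ x ∈ RingHom.ker (Bialgebra.counitAlgHom R B), f • x = 0 := by
  classical
  let Rp := Localization.AtPrime p
  let Bp := Rp ⊗[R] B
  let inc : B →ₐ[R] Bp := Algebra.TensorProduct.includeRight
  have hcounit : ∀ b : B, Coalgebra.counit (R := Rp) ((1 : Rp) ⊗ₜ[R] b) =
      algebraMap R Rp (Coalgebra.counit (R := R) b) := fun b => by
    rw [TensorProduct.counit_tmul, CommSemiring.counit_apply, Algebra.algebraMap_eq_smul_one]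
  have hfinp : ∀ n : ℕ, 0 < n → Module.Finite Rp (Bp ⧸ SGA3b.torsionIdeal Rp Bp n) := by
    intro n hn
    have := hfin n hn
    let T := SGA3b.torsionIdeal R B n
    let T' := SGA3b.torsionIdeal Rp Bp n
    let g₀ : B →ₐ[R] Bp ⧸ T' := ((Ideal.Quotient.mkₐ Rp T').restrictScalars R).comp inc
    have hT : T ≤ RingHom.ker g₀ := by
      refine MultType.torsionIdeal_le_iff.2 fun b => ?_
      rw [RingHom.mem_ker, map_sub, sub_eq_zero]
      have h1 := MultType.torsionIdeal_le_iff.1 (le_refl T') ((1 : Rp) ⊗ₜ[R] b)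
      rw [MultType.powConv_baseChange, hcounit, ← Ideal.Quotient.eq] at h1
      rw [AlgHom.commutes]
      refine h1.trans ?_
      rw [IsScalarTower.algebraMap_apply R Rp (Bp ⧸ T')]
      rfl
    let g₁ : B ⧸ T →ₐ[R] Bp ⧸ T' := Ideal.Quotient.liftₐ T g₀ fun x hx => hT hx
    let g : Rp ⊗[R] (B ⧸ T) →ₐ[Rp] Bp ⧸ T' :=
      Algebra.TensorProduct.lift (Algebra.ofId Rp _) g₁ fun _ _ => Commute.all _ _
    refine Module.Finite.of_surjective g.toLinearMap fun y => ?_
    obtain ⟨z, rfl⟩ := Ideal.Quotient.mk_surjective y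
    refine ⟨AlgebraTensorModule.lTensor Rp Rp (Ideal.Quotient.mkₐ R T).toLinearMap z, ?_⟩
    induction z using TensorProduct.induction_on with
    | zero => simp
    | add x y hx hy =>
      show g _ = _
      rw [map_add, map_add, map_add]
      exact congrArg₂ (· + ·) hx hy
    | tmul c b =>
      show algebraMap Rp (Bp ⧸ T') c * Ideal.Quotient.mk T' ((1 : Rp) ⊗ₜ[R] b) = _
      rw [IsScalarTower.algebraMap_apply Rp Bp (Bp ⧸ T'), Ideal.Quotient.algebraMap_eq, ← map_mul,
        Algebra.TensorProduct.algebraMap_apply, Algebra.TensorProduct.tmul_mul_tmul,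
        Algebra.algebraMap_self_apply, _root_.mul_one, _root_.one_mul]
  have hs : RingHom.ker (Bialgebra.counitAlgHom Rp Bp) ≤
      (IsLocalRing.maximalIdeal Rp).map (algebraMap Rp Bp) := by
    let m := (IsLocalRing.maximalIdeal Rp).map (algebraMap Rp Bp)
    let Q := Bp ⧸ m
    have h0 : ∀ r ∈ p, algebraMap R Q r = 0 := fun r hr => by
      rw [IsScalarTower.algebraMap_apply R Rp Q, IsScalarTower.algebraMap_apply Rp Bp Q,
        Ideal.Quotient.algebraMap_eq, Ideal.Quotient.eq_zero_iff_mem]
      exact Ideal.mem_map_of_mem _ ((IsLocalization.AtPrime.to_map_mem_maximal_iff Rp p r).2 hr)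
    have h1 : ∀ r ∉ p, IsUnit (algebraMap R Q r) := fun r hr => by
      rw [IsScalarTower.algebraMap_apply R Rp Q]
      exact (IsLocalization.map_units Rp (⟨r, hr⟩ : p.primeCompl)).map (algebraMap Rp Q)
    let q : Bp →ₐ[Rp] Q := Ideal.Quotient.mkₐ Rp m
    have ha := hfib Q h0 h1 ((q.restrictScalars R).comp inc)
    have hq : q = (Algebra.ofId Rp Q).comp (Bialgebra.counitAlgHom Rp Bp) := by
      refine Algebra.TensorProduct.ext' fun c b => ?_
      have e1 : (c ⊗ₜ[R] b : Bp) = c • ((1 : Rp) ⊗ₜ[R] b) := by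
        rw [TensorProduct.smul_tmul', smul_eq_mul, _root_.mul_one]
      rw [e1, map_smul, map_smul]
      congr 1
      refine (DFunLike.congr_fun ha b).trans ?_
      exact ((congrArg (algebraMap Rp Q) (hcounit b)).trans
        (IsScalarTower.algebraMap_apply R Rp Q _).symm).symm
    intro x hx
    rw [← Ideal.Quotient.eq_zero_iff_mem]
    refine (DFunLike.congr_fun hq x).trans ?_
    rw [RingHom.mem_ker] at hx
    rw [AlgHom.comp_apply, hx, map_zero]
  have hbot := MultType.ker_counit_eq_bot hfinp hs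
  obtain ⟨t, ht⟩ : (RingHom.ker (Bialgebra.counitAlgHom R B)).FG :=
    Algebra.FinitePresentation.ker_fG_of_surjective (Bialgebra.counitAlgHom R B)
      fun r => ⟨algebraMap R B r, by simp⟩
  have hk : ∀ x ∈ t, ∃ f : p.primeCompl, f • x = 0 := by
    intro x hx
    have h1 : ((1 : Rp) ⊗ₜ[R] x : Bp) ∈ RingHom.ker (Bialgebra.counitAlgHom Rp Bp) := by
      rw [RingHom.mem_ker]
      show Coalgebra.counit (R := Rp) ((1 : Rp) ⊗ₜ[R] x) = 0
      have : Bialgebra.counitAlgHom R B x = 0 := (ht ▸ Ideal.subset_span hx :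
        x ∈ RingHom.ker (Bialgebra.counitAlgHom R B))
      rw [hcounit, show Coalgebra.counit (R := R) x = 0 from this, map_zero]
    rw [hbot, Ideal.mem_bot] at h1
    exact (IsLocalizedModule.eq_zero_iff p.primeCompl (TensorProduct.mk R Rp B 1)).1 h1
  choose f hf using hk
  refine ⟨∏ x : t, (f x.1 x.2 : R), fun hmem => ?_, fun x hx => ?_⟩
  · obtain ⟨x, -, hx⟩ := (Ideal.IsPrime.prod_mem_iff).1 hmem
    exact (f x.1 x.2).2 hx
  · rw [← ht] at hx
    refine Submodule.span_induction (fun y hy => ?_) (smul_zero _)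
      (fun a b _ _ ha hb => by rw [smul_add, ha, hb, add_zero])
      (fun b y _ hy => by rw [smul_comm, hy, smul_zero]) hx
    obtain ⟨c, hc⟩ := Finset.dvd_prod_of_mem (fun x : t => (f x.1 x.2 : R)) (Finset.mem_univ ⟨y, hy⟩)
    rw [hc, mul_comm, mul_smul]
    exact (congrArg (c • ·) (hf y hy)).trans (smul_zero _)

/-- `Spec C` over `Spec R` -/
abbrev P (R C : Type u) [CommRing R] [CommRing C] [Algebra R C] : Over (Spec (CommRingCat.of R)) :=
  (Spec (CommRingCat.of C)).asOver (Spec (CommRingCat.of R))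

/-- The kernel is an affine group of finite presentation. -/
theorem exists_kernel {R : CommRingCat.{u}} {H G : Over (Spec R)} [GrpObj H] [GrpObj G]
    (hH : SGA3x.IsMultTypeFT H) [IsSeparated G.hom]
    (hG : IsNoetherianRing R ∨ LocallyOfFinitePresentation G.hom) (u : H ⟶ G) [IsMonHom u] :
    ∃ (B : Type u) (_ : CommRing B) (_ : HopfAlgebra R B) (_ : Algebra.FinitePresentation R B)
      (i : P R B ⟶ H), Coalgebra.IsCocomm R B ∧ IsMonHom i ∧ IsClosedImmersion i.left ∧
      ∀ (T : Over (Spec R)) (x : T ⟶ H), (∃ w, w ≫ i = x) ↔ x ≫ u = 1 := by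
  have := TrivLocus.isClosedImmersion_one (G := G)
  have := Central.isAffineHom_of_multTypeFT hH
  have := Locus.lfp_of_multTypeFT hH
  let k := pullback.fst u.left η[G].left
  have hkc : IsClosedImmersion k := MorphismProperty.pullback_fst _ _ ‹_›
  have hkl : LocallyOfFinitePresentation k := by
    rcases hG with hN | hl
    · have : IsLocallyNoetherian (Spec R) := inferInstance
      have : LocallyOfFiniteType H.hom := TrivLocus.lft_of_multTypeFT hH
      have : IsLocallyNoetherian H.left := LocallyOfFiniteType.isLocallyNoetherian H.hom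
      exact TrivLocus.lfp_of_noetherian k
    · exact MorphismProperty.pullback_fst _ _ (TrivLocus.lfp_one (G := G))
  let K : Over (Spec R) := Over.mk (k ≫ H.hom)
  let i₀ : K ⟶ H := Over.homMk k rfl
  have hK : ∀ (T : Over (Spec R)) (x : T ⟶ H), (∃ w, w ≫ i₀ = x) ↔ x ≫ u = 1 := by
    intro T x
    constructor
    · rintro ⟨w, rfl⟩
      apply Over.OverMorphism.ext
      rw [MonoFibres.one_left, Over.comp_left, Over.comp_left]
      show (w.left ≫ k) ≫ u.left = _
      rw [Category.assoc, pullback.condition, ← Over.w w]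
      show _ = (w.left ≫ k ≫ H.hom) ≫ η[G].left
      have h1 : k ≫ H.hom = pullback.snd u.left η[G].left := by
        have h2 := congrArg (· ≫ G.hom) (pullback.condition (f := u.left) (g := η[G].left))
        simp only [Category.assoc, GrpBasics.unit_comp_hom G, Over.w u] at h2
        exact h2
      rw [h1, Category.assoc]
    · intro hx
      refine ⟨Over.homMk (pullback.lift x.left T.hom ?_) ?_, ?_⟩
      · rw [← Over.comp_left, hx, MonoFibres.one_left]
      · show pullback.lift _ _ _ ≫ k ≫ H.hom = T.hom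
        rw [pullback.lift_fst_assoc, Over.w x]
      · exact Over.OverMorphism.ext (pullback.lift_fst _ _ _)
  have : IsClosedImmersion i₀.left := hkc
  have : Mono i₀ := Over.mono_of_mono_left i₀
  obtain ⟨hgK, hmK⟩ := Locus.exists_subgroup i₀ (fun T x => x ≫ u = 1) hK (MonObj.one_comp _)
    (fun T x y hx hy => by rw [MonObj.mul_comp, hx, hy, _root_.mul_one])
    (fun T x hx => by rw [GrpObj.inv_comp, hx, inv_one])
  have : IsAffineHom k := inferInstance
  have : IsAffineHom K.hom := inferInstanceAs (IsAffineHom (k ≫ H.hom))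
  have : IsAffine K.left := isAffine_of_isAffineHom K.hom
  obtain ⟨A, ⟨e⟩⟩ := (essImage_hopfSpec (G := Grp.mk K)).mpr ‹IsAffine K.left›
  let φ : P R A.unop ⟶ K := e.hom.hom.hom
  let ψ : K ⟶ P R A.unop := e.inv.hom.hom
  have h1 : φ ≫ ψ = 𝟙 _ := congrArg (fun f => f.hom.hom) e.hom_inv_id
  have h2 : ψ ≫ φ = 𝟙 K := congrArg (fun f => f.hom.hom) e.inv_hom_id
  have : IsMonHom φ := e.hom.hom.isMonHom_hom
  have : IsIso φ := ⟨ψ, h1, h2⟩
  have : IsIso φ.left := inferInstanceAs (IsIso ((Over.forget _).map φ))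
  let i : P R A.unop ⟶ H := φ ≫ i₀
  have hic : IsClosedImmersion i.left := inferInstanceAs (IsClosedImmersion (φ.left ≫ i₀.left))
  have him : IsMonHom i := inferInstanceAs (IsMonHom (φ ≫ i₀))
  have : Mono i := Over.mono_of_mono_left i
  have hfp : Algebra.FinitePresentation R A.unop := by
    have h3 : LocallyOfFinitePresentation (φ.left ≫ k ≫ H.hom) := inferInstance
    have h4 : φ.left ≫ k ≫ H.hom = Spec.map (CommRingCat.ofHom (algebraMap R A.unop)) := Over.w φ
    rw [h4] at h3
    change LocallyOfFinitePresentation (Spec.map (CommRingCat.ofHom (algebraMap R A.unop))) at h3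
    rw [HasRingHomProperty.Spec_iff (P := @LocallyOfFinitePresentation)] at h3
    exact RingHom.finitePresentation_algebraMap.1 h3
  refine ⟨A.unop, inferInstance, inferInstance, hfp, i, ?_, him, hic, fun T x => ?_⟩
  · let L : WithConv (A.unop →ₐ[R] A.unop ⊗[R] A.unop) := toConv Algebra.TensorProduct.includeLeft
    let Rr : WithConv (A.unop →ₐ[R] A.unop ⊗[R] A.unop) := toConv Algebra.TensorProduct.includeRight
    have h : L * Rr = Rr * L := Spec.mapMulEquiv.injective (by
      rw [map_mul, map_mul, ← cancel_mono i, MonObj.mul_comp, MonObj.mul_comp]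
      exact Central.mul_comm_of_multTypeFT hH _ _)
    constructor
    refine LinearMap.ext fun a => ?_
    have ha := congrArg (fun f : WithConv (A.unop →ₐ[R] A.unop ⊗[R] A.unop) => f.ofConv a) h
    simp only [AlgHom.convMul_apply] at ha
    have e1 : ∀ z : A.unop ⊗[R] A.unop,
        Algebra.TensorProduct.lift L.ofConv Rr.ofConv (fun _ _ => Commute.all _ _) z = z := by
      intro z
      induction z using TensorProduct.induction_on with
      | zero => simp
      | tmul x y => simp [L, Rr]
      | add x y hx hy => rw [map_add, hx, hy]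
    have e2 : ∀ z : A.unop ⊗[R] A.unop, Algebra.TensorProduct.lift Rr.ofConv L.ofConv
        (fun _ _ => Commute.all _ _) z = TensorProduct.comm R A.unop A.unop z := by
      intro z
      induction z using TensorProduct.induction_on with
      | zero => simp
      | tmul x y => simp [L, Rr]
      | add x y hx hy => rw [map_add, map_add, hx, hy]
    rw [e1, e2] at ha
    exact ha.symm
  · rw [← hK]
    exact ⟨fun ⟨w, hw⟩ => ⟨w ≫ φ, (Category.assoc _ _ _).trans hw⟩,
      fun ⟨w, hw⟩ => ⟨w ≫ ψ, by rw [← hw]; simp [i, reassoc_of% h2]⟩⟩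

variable {R B : Type u} [CommRing R] [CommRing B] [HopfAlgebra R B] [Algebra.FiniteType R B]
  {H : Over (Spec (CommRingCat.of R))} [GrpObj H]

/-- the torsion of a closed subgroup of a group of multiplicative type is finite -/
theorem finite_torsion_sub (hH : SGA3x.IsMultTypeFT H) (i : P R B ⟶ H) [IsMonHom i]
    [IsClosedImmersion i.left] {n : ℕ} (hn : 0 < n) :
    Module.Finite R (B ⧸ SGA3b.torsionIdeal R B n) := by
  let T := SGA3b.torsionIdeal R B n
  let c : Cocycle.X (𝟙 (Spec (CommRingCat.of R))) (B ⧸ T) ⟶ P R B :=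
    Over.homMk (Spec.map (CommRingCat.ofHom (Ideal.Quotient.mk T))) (by
      show Spec.map _ ≫ Spec.map (CommRingCat.ofHom (algebraMap R B)) = Spec.map _ ≫ 𝟙 _
      rw [Category.comp_id, ← Spec.map_comp]
      rfl)
  have hc : c ^ n = 1 := by
    let f : (P R B ⟶ P R B) →* (Cocycle.X (𝟙 (Spec (CommRingCat.of R))) (B ⧸ T) ⟶ P R B) :=
      MonoidHom.mk' (c ≫ ·) fun a b => MonObj.comp_mul _ _ _
    let pw : WithConv (B →ₐ[R] B) := toConv (AlgHom.id R B) ^ n
    have h1 : Spec.mapMulEquiv (R := R) (toConv (AlgHom.id R B)) = 𝟙 (P R B) :=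
      Over.OverMorphism.ext (Spec.map_id _)
    have h2 : c ≫ Spec.mapMulEquiv pw = c ≫ Spec.mapMulEquiv (1 : WithConv (B →ₐ[R] B)) := by
      apply Over.OverMorphism.ext
      show Spec.map _ ≫ Spec.map _ = Spec.map _ ≫ Spec.map _
      rw [← Spec.map_comp, ← Spec.map_comp]
      congr 1
      ext b
      exact Ideal.Quotient.eq.2 (MultType.torsionIdeal_le_iff.1 (le_refl T) b)
    have h3 : f (𝟙 (P R B) ^ n) = f 1 := by
      rw [← h1, ← map_pow, ← map_one (Spec.mapMulEquiv (R := R) (S := B) (T := B))]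
      exact h2
    rw [map_pow, map_one] at h3
    have h4 : f (𝟙 (P R B)) = c := Category.comp_id c
    rwa [h4] at h3
  refine finite_of_killed (Locus.locally_of_multTypeFT hH) (c ≫ i) ?_ hn ?_
  · have h1 : pullback.lift (f := H.hom) (g := 𝟙 _) (c ≫ i).left
        (Spec.map (CommRingCat.ofHom (algebraMap R (B ⧸ T)))) (Over.w (c ≫ i)) ≫
          pullback.fst H.hom (𝟙 _) = Spec.map (CommRingCat.ofHom (Ideal.Quotient.mk T)) ≫ i.left :=
      pullback.lift_fst _ _ _
    have : IsClosedImmersion (Spec.map (CommRingCat.ofHom (Ideal.Quotient.mk T))) :=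
      IsClosedImmersion.spec_of_surjective _ Ideal.Quotient.mk_surjective
    have : IsClosedImmersion (pullback.lift (f := H.hom) (g := 𝟙 _) (c ≫ i).left
        (Spec.map (CommRingCat.ofHom (algebraMap R (B ⧸ T)))) (Over.w (c ≫ i)) ≫
          pullback.fst H.hom (𝟙 _)) := by
      rw [h1]; exact MorphismProperty.comp_mem _ _ _ this ‹IsClosedImmersion i.left›
    exact IsClosedImmersion.of_comp _ (pullback.fst H.hom (𝟙 _))
  · let f : (Cocycle.X (𝟙 (Spec (CommRingCat.of R))) (B ⧸ T) ⟶ P R B) →*
        (Cocycle.X (𝟙 (Spec (CommRingCat.of R))) (B ⧸ T) ⟶ H) :=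
      MonoidHom.mk' (· ≫ i) fun a b => MonObj.mul_comp _ _ _
    have := congrArg f hc
    rwa [map_pow, map_one] at this

end Groth.L25.MonoNhd
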