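import Groth.Agent.L25.Cocycle.Descend
import Groth.Agent.L25.Locus.Factor
import Mathlib.RingTheory.IntegralClosure.IsIntegralClosure.Basic
import Mathlib.RingTheory.Flat.FaithfullyFlat.Algebra
import Mathlib.LinearAlgebra.TensorProduct.Pi
import Mathlib.RingTheory.FiniteStability

/-!
# Closed subschemes of groups of multiplicative type killed by an integer are finite
-/

set_option autoImplicit false
universe u

open CategoryTheory CategoryTheory.Limits MonoidalCategory CartesianMonoidalCategory MonObj GrpObj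
open AlgebraicGeometry TensorProduct

set_option backward.isDefEq.respectTransparency.types false

noncomputable section

namespace Groth.L25.MonoNhd

open Groth.L25.Cocycle

variable {S : Scheme.{u}} {R : Type u} [CommRing R] {j : Spec (CommRingCat.of R) ⟶ S} {H : Over S}
  [GrpObj H]

/-- the points of a chart as a homomorphism -/
def ptHom {M : Type} [CommGroup M] (e : Chart j H M) (C : Type u) [CommRing C] [Algebra R C] :
    (M →* C) →* (X j C ⟶ H) :=
  MonoidHom.mk' e.pt e.pt_mul

theorem finite_chart {M : Type} [CommGroup M] (e : Chart j H M) {B : Type u} [CommRing B]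
    [Algebra R B] [Algebra.FiniteType R B] (z : X j B ⟶ H)
    (hz : IsClosedImmersion (pullback.lift (f := H.hom) (g := j) z.left
      (Spec.map (CommRingCat.ofHom (algebraMap R B))) (Over.w z)))
    {n : ℕ} (hn : 0 < n) (hzn : z ^ n = 1) : Module.Finite R B := by
  obtain ⟨χ, hχ⟩ := (e.bij B).2 z
  have hχn : χ ^ n = 1 := by
    apply (e.bij B).1
    have h1 : ptHom e B (χ ^ n) = ptHom e B 1 := by
      rw [map_pow, map_one]
      exact (congrArg (· ^ n) hχ).trans hzn
    exact h1
  let Q : Subalgebra R B := Algebra.adjoin R (Set.range χ)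
  let χ₀ : M →* Q :=
    { toFun := fun m => ⟨χ m, Algebra.subset_adjoin ⟨m, rfl⟩⟩
      map_one' := Subtype.ext χ.map_one
      map_mul' := fun a b => Subtype.ext (χ.map_mul a b) }
  have h0 : mor j Q.val ≫ e.pt χ₀ = z := by
    rw [e.nat, ← hχ]
    rfl
  let k := pullback.lift (f := H.hom) (g := j) z.left
      (Spec.map (CommRingCat.ofHom (algebraMap R B))) (Over.w z)
  have : IsClosedImmersion k := hz
  let f : Spec (CommRingCat.of Q) ⟶ pullback H.hom j :=
    pullback.lift (e.pt χ₀).left (Spec.map (CommRingCat.ofHom (algebraMap R Q))) (Over.w (e.pt χ₀))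
  obtain ⟨I, -, hI⟩ := Locus.exists_ideal_factors k f
  have hkf : k = Spec.map (CommRingCat.ofHom Q.val.toRingHom) ≫ f := by
    apply pullback.hom_ext
    · simp only [k, f, Category.assoc, pullback.lift_fst]
      exact (congrArg (fun m => m.left) h0).symm
    · simp only [k, f, Category.assoc, pullback.lift_snd]
      rw [← Spec.map_comp]
      rfl
  have hI0 : ∀ x ∈ I, (x : B) = 0 := (hI B Q.val.toRingHom).1 ⟨𝟙 _, (Category.id_comp _).trans hkf⟩
  obtain ⟨w, hw⟩ := (hI Q (RingHom.id Q)).2 fun x hx => Subtype.ext (hI0 x hx)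
  obtain ⟨φ, hφ⟩ := Spec.map_surjective w
  have h1 : Spec.map (CommRingCat.ofHom Q.val.toRingHom) ≫ Spec.map φ = 𝟙 _ := by
    rw [← cancel_mono k, Category.assoc, hφ, hw, Category.id_comp, hkf]
    congr 1
    rw [CommRingCat.ofHom_id, Spec.map_id]
    exact Category.id_comp _
  rw [← Spec.map_comp, ← Spec.map_id] at h1
  have h2 := Spec.map_injective h1
  have hQ : Q = ⊤ := eq_top_iff.2 fun b _ => by
    have h3 : Q.val (φ.hom b) = b := congrArg (fun m => m.hom b) h2
    rw [← h3]
    exact (φ.hom b).2
  have : Algebra.IsIntegral R B := ⟨fun b => by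
    have hle : Q ≤ integralClosure R B := Algebra.adjoin_le fun x hx => by
      obtain ⟨m, rfl⟩ := hx
      refine IsIntegral.of_pow hn ?_
      have : (χ m) ^ n = 1 := congrArg (fun ψ : M →* B => ψ m) hχn
      rw [this]
      exact isIntegral_one
    exact hle (hQ ▸ Algebra.mem_top)⟩
  exact Algebra.IsIntegral.finite

theorem finite_of_killed (hH : TwC.Locally S TwC.Topology.fpqc (fun S' f => ∃ (M : Type) (_ : AddCommGroup M),
      Nonempty (Grp.mk (Red.bc f H) ≅ Grp.mk (Red.DS S' M))))
    {B : Type u} [CommRing B] [Algebra R B] [Algebra.FiniteType R B] (z : X j B ⟶ H)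
    (hz : IsClosedImmersion (pullback.lift (f := H.hom) (g := j) z.left
      (Spec.map (CommRingCat.ofHom (algebraMap R B))) (Over.w z)))
    {n : ℕ} (hn : 0 < n) (hzn : z ^ n = 1) : Module.Finite R B := by
  classical
  obtain ⟨F⟩ := exists_family (j := j) hH
  let : ∀ i, Algebra R (F.C i) := fun i => (F.θ i).toAlgebra
  have hfin : ∀ i, Module.Finite (F.C i) (F.C i ⊗[R] B) := by
    intro i
    let inc : B →ₐ[R] F.C i ⊗[R] B := Algebra.TensorProduct.includeRight
    let ji : Spec (CommRingCat.of (F.C i)) ⟶ S := Spec.map (CommRingCat.ofHom (F.θ i)) ≫ j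
    let t : X ji (F.C i ⊗[R] B) ⟶ X j B := Over.homMk (Spec.map (CommRingCat.ofHom inc.toRingHom)) (by
      show Spec.map _ ≫ Spec.map _ ≫ j = Spec.map _ ≫ Spec.map _ ≫ j
      rw [← Spec.map_comp_assoc, ← Spec.map_comp_assoc, ← CommRingCat.ofHom_comp, ← CommRingCat.ofHom_comp]
      congr 3
      exact RingHom.ext fun r => inc.commutes r)
    refine finite_chart (F.chart i) (t ≫ z) ?_ hn ?_
    · have hsq : IsPullback
          (Spec.map (CommRingCat.ofHom inc.toRingHom))
          (Spec.map (CommRingCat.ofHom (algebraMap (F.C i) (F.C i ⊗[R] B))))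
          (Spec.map (CommRingCat.ofHom (algebraMap R B)))
          (Spec.map (CommRingCat.ofHom (F.θ i))) :=
        (CommRingCat.isPushout_tensorProduct R (F.C i) B).op.map Scheme.Spec
      let p : pullback H.hom ji ⟶ pullback H.hom j :=
        pullback.lift (pullback.fst _ _) (pullback.snd _ _ ≫ Spec.map (CommRingCat.ofHom (F.θ i)))
          (by rw [Category.assoc]; exact pullback.condition)
      have hp : IsPullback p (pullback.snd H.hom ji) (pullback.snd H.hom j)
          (Spec.map (CommRingCat.ofHom (F.θ i))) := by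
        refine IsPullback.of_right ?_ (pullback.lift_snd _ _ _) (IsPullback.of_hasPullback H.hom j)
        simp only [p, pullback.lift_fst]
        exact IsPullback.of_hasPullback H.hom ji
      let k := pullback.lift (f := H.hom) (g := j) z.left
        (Spec.map (CommRingCat.ofHom (algebraMap R B))) (Over.w z)
      let k' := pullback.lift (f := H.hom) (g := ji) (t ≫ z).left
        (Spec.map (CommRingCat.ofHom (algebraMap (F.C i) (F.C i ⊗[R] B)))) (Over.w (t ≫ z))
      have hk : IsPullback (Spec.map (CommRingCat.ofHom inc.toRingHom)) k' k p := by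
        refine IsPullback.of_bot ?_ ?_ hp
        · simp only [k, k', pullback.lift_snd]
          exact hsq
        · apply pullback.hom_ext
          · simp only [k, k', p, Category.assoc, pullback.lift_fst]
            rfl
          · simp only [k, k', p, Category.assoc, pullback.lift_snd, pullback.lift_snd_assoc]
            exact hsq.w
      exact MorphismProperty.of_isPullback hk hz
    · let f : (X j B ⟶ H) →* (X ji (F.C i ⊗[R] B) ⟶ H) :=
        MonoidHom.mk' (t ≫ ·) fun a b => MonObj.comp_mul _ _ _
      have := congrArg f hzn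
      rwa [map_pow, map_one] at this
  have hflat : ∀ i, Module.Flat R (F.C i) := fun i => by
    have h1 := F.flat i
    rw [HasRingHomProperty.Spec_iff (P := @Flat)] at h1
    exact h1
  have : Fintype F.idx := Fintype.ofFinite F.idx
  have : Module.FaithfullyFlat R (∀ i, F.C i) := by
    have : Module.Flat R (∀ i, F.C i) :=
      Module.Flat.of_linearEquiv (DFinsupp.linearEquivFunOnFintype (R := R)).symm
    refine Module.FaithfullyFlat.of_comap_surjective fun p => ?_
    obtain ⟨i, q, hq⟩ := F.surj p
    exact ⟨PrimeSpectrum.comap (Pi.evalRingHom F.C i) q,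
      (PrimeSpectrum.comap_comp_apply (algebraMap R (∀ i, F.C i)) (Pi.evalRingHom F.C i) q).symm.trans hq⟩
  -- finitely many elements of `B` generate after every base change
  have key : ∀ i, ∃ s : Finset B, ∀ x : F.C i ⊗[R] B,
      x ∈ Submodule.span (F.C i) ((fun b => (1 : F.C i) ⊗ₜ[R] b) '' (s : Set B)) := by
    intro i
    obtain ⟨g, hg⟩ := (hfin i).1
    choose fs hfs using fun x : F.C i ⊗[R] B => TensorProduct.exists_finset x
    refine ⟨g.biUnion fun x => (fs x).image Prod.snd, fun x => ?_⟩
    have hx : x ∈ Submodule.span (F.C i) (g : Set (F.C i ⊗[R] B)) := hg ▸ Submodule.mem_top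
    refine Submodule.span_le.2 (fun y hy => ?_) hx
    rw [hfs y]
    refine Submodule.sum_mem _ fun cb hcb => ?_
    have h1 : (cb.1 ⊗ₜ[R] cb.2 : F.C i ⊗[R] B) = cb.1 • ((1 : F.C i) ⊗ₜ[R] cb.2) := by
      rw [TensorProduct.smul_tmul', smul_eq_mul, _root_.mul_one]
    rw [h1]
    exact Submodule.smul_mem _ _ (Submodule.subset_span
      ⟨cb.2, Finset.mem_biUnion.2 ⟨y, hy, Finset.mem_image.2 ⟨cb, hcb, rfl⟩⟩, rfl⟩)
  choose s hs using key
  let t : Finset B := Finset.univ.biUnion s
  let N : Submodule R B := Submodule.span R (t : Set B)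
  have h0 : ∀ i, Subsingleton (F.C i ⊗[R] (B ⧸ N)) := fun i => by
    refine subsingleton_of_forall_eq 0 fun x => ?_
    let π := AlgebraTensorModule.lTensor (F.C i) (F.C i) N.mkQ
    obtain ⟨y, rfl⟩ : ∃ y, π y = x := LinearMap.lTensor_surjective (F.C i) N.mkQ_surjective x
    have hle : Submodule.span (F.C i) ((fun b => (1 : F.C i) ⊗ₜ[R] b) '' (s i : Set B)) ≤
        LinearMap.ker π := by
      refine Submodule.span_le.2 ?_
      rintro _ ⟨b, hb, rfl⟩
      have hbN : b ∈ N := Submodule.subset_span (Finset.mem_biUnion.2 ⟨i, Finset.mem_univ i, hb⟩)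
      simp [π, (Submodule.Quotient.mk_eq_zero N).2 hbN]
    exact hle (hs i y)
  have : Subsingleton ((∀ i, F.C i) ⊗[R] (B ⧸ N)) :=
    (TensorProduct.piLeft R (B ⧸ N) F.C).toEquiv.subsingleton
  have h1 : Subsingleton (B ⧸ N) := Module.FaithfullyFlat.lTensor_reflects_triviality R (∀ i, F.C i) (B ⧸ N)
  exact ⟨t, Submodule.Quotient.subsingleton_iff.1 h1⟩

end Groth.L25.MonoNhd
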