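import Groth.Agent.L25.MultType.Torsion
import Groth.Agent.L25.OrderKills
import Mathlib.RingTheory.ZariskisMainTheorem
import Mathlib.RingTheory.LocalRing.Module
import Mathlib.RingTheory.Support
import Mathlib.RingTheory.Noetherian.Nilpotent
import Mathlib.RingTheory.Coalgebra.Convolution
import Mathlib.RingTheory.Ideal.Cotangent
import Mathlib.Data.Nat.Choose.Sum

/-!
# A commutative quasi-finite group of finite presentation is killed by an integer
-/

set_option autoImplicit false
universe u

open TensorProduct WithConv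

namespace Groth.L25.MonoNhd

variable {R C : Type u} [CommRing R] [CommRing C]

/-- the fibres of a quasi-finite algebra of finite type have bounded rank -/
theorem exists_bound [Algebra R C] [Algebra.FiniteType R C] [Algebra.QuasiFinite R C] :
    ∃ N : ℕ, ∀ (p : Ideal R) [p.IsPrime], Module.finrank p.ResidueField (p.Fiber C) ≤ N := by
  classical
  have key : ∀ P : PrimeSpectrum C, ∃ (L : Submodule R C) (r : C), L.FG ∧ r ∉ P.asIdeal ∧
      ∀ x, ∃ m, r ^ m * x ∈ L ∧ ∀ j, r ^ j * (r ^ m * x) ∈ L := by
    intro P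
    obtain ⟨S', hfg, r, hr, hb⟩ :=
      Algebra.QuasiFiniteAt.exists_fg_and_exists_notMem_and_awayMap_bijective (R := R) P.asIdeal
    refine ⟨S'.toSubmodule, r.1, hfg, hr, fun x => ?_⟩
    let fr : C := S'.val.toRingHom r
    obtain ⟨y, hy⟩ := hb.2 (algebraMap C (Localization.Away fr) x)
    obtain ⟨s, ⟨q, k, hq⟩, rfl⟩ := IsLocalization.exists_mk'_eq (.powers r) y
    change r ^ k = q at hq
    subst hq
    have h0 := congrArg (Localization.awayMap S'.val.toRingHom r)
      (IsLocalization.mk'_spec (Localization.Away r) s (⟨r ^ k, k, rfl⟩ : Submonoid.powers r))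
    rw [map_mul, hy, Localization.awayMap, IsLocalization.Away.map, IsLocalization.map_eq,
      IsLocalization.map_eq, ← map_mul, IsLocalization.eq_iff_exists (.powers fr)] at h0
    obtain ⟨⟨_, l, rfl⟩, hl⟩ := h0
    have hl' : r.1 ^ (l + k) * x = (r ^ l * s : S').1 := by
      push_cast
      rw [pow_add, show r.1 ^ l * r.1 ^ k * x = r.1 ^ l * (x * r.1 ^ k) by ring]
      exact hl
    refine ⟨l + k, hl' ▸ (r ^ l * s : S').2, fun j => ?_⟩
    rw [hl']
    exact (mul_mem (pow_mem r.2 j) (r ^ l * s : S').2 : _ ∈ S')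
  choose L r hL hr hmem using key
  obtain ⟨t, ht⟩ :=
    (isCompact_univ (X := PrimeSpectrum C)).elim_finite_subcover
      (fun P => (PrimeSpectrum.basicOpen (r P) : Set (PrimeSpectrum C)))
      (fun P => (PrimeSpectrum.basicOpen (r P)).2) (fun P _ => Set.mem_iUnion.2 ⟨P, hr P⟩)
  choose g hg using fun P => hL P
  refine ⟨∑ P ∈ t, (g P).card, fun p _ => ?_⟩
  let K := p.ResidueField
  let F := p.Fiber C
  let inc : C →ₐ[R] F := Algebra.TensorProduct.includeRight
  let T : Finset C := t.biUnion g
  let V : Submodule K F := Submodule.span K ((T.image inc : Finset F) : Set F)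
  have hLV : ∀ P ∈ t, ∀ x ∈ L P, inc x ∈ V := by
    intro P hP x hx
    rw [← hg P] at hx
    refine Submodule.span_induction (fun y hy => Submodule.subset_span
      (Finset.mem_coe.2 (Finset.mem_image_of_mem _ (Finset.mem_biUnion.2 ⟨P, hP, hy⟩))))
      (by rw [map_zero]; exact zero_mem _) (fun a b _ _ ha hb => by rw [map_add]; exact add_mem ha hb)
      (fun c y _ hy => by
        rw [map_smul, ← algebraMap_smul (R := R) K c (inc y)]
        exact Submodule.smul_mem _ _ hy) hx
  obtain ⟨b, hb⟩ := (Module.Finite.fg_top : (⊤ : Submodule K F).FG)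
  choose fs hfs using fun y : F => TensorProduct.exists_finset y
  let xs : Finset C := b.biUnion fun y => (fs y).image Prod.snd
  choose m hm hm' using hmem
  let M := (t.product xs).sup fun Px => m Px.1 Px.2
  have hspan : ∀ P ∈ t, ∀ y : F, inc (r P ^ M) * y ∈ V := by
    intro P hP y
    have hy : y ∈ Submodule.span K (b : Set F) := hb ▸ Submodule.mem_top
    refine Submodule.span_induction (fun z hz => ?_) (by rw [mul_zero]; exact zero_mem _)
      (fun a c _ _ ha hc => by rw [mul_add]; exact add_mem ha hc)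
      (fun c z _ hz => by rw [mul_smul_comm]; exact Submodule.smul_mem _ _ hz) hy
    rw [hfs z, Finset.mul_sum]
    refine Submodule.sum_mem _ fun cx hcx => ?_
    have h1 : (cx.1 ⊗ₜ[R] cx.2 : F) = cx.1 • inc cx.2 := by
      show _ = cx.1 • ((1 : K) ⊗ₜ[R] cx.2)
      rw [TensorProduct.smul_tmul', smul_eq_mul, _root_.mul_one]
    rw [h1, mul_smul_comm, ← map_mul]
    refine Submodule.smul_mem _ _ (hLV P hP _ ?_)
    have hx : cx.2 ∈ xs := Finset.mem_biUnion.2 ⟨z, hz, Finset.mem_image.2 ⟨cx, hcx, rfl⟩⟩
    have hle : m P cx.2 ≤ M := Finset.le_sup (f := fun Px => m Px.1 Px.2)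
      (Finset.mem_product.2 ⟨hP, hx⟩ : (P, cx.2) ∈ t.product xs)
    obtain ⟨j, hj⟩ := Nat.exists_eq_add_of_le hle
    rw [hj, pow_add, mul_comm (r P ^ m P cx.2), mul_assoc]
    exact hm' P cx.2 j
  have htop : Ideal.span ((fun P => r P ^ M) '' (t : Set (PrimeSpectrum C))) = ⊤ := by
    by_contra hne
    obtain ⟨Q, hQ, hle⟩ := Ideal.exists_le_maximal _ hne
    obtain ⟨P, hP, hPQ⟩ := Set.mem_iUnion₂.1 (ht (Set.mem_univ (⟨Q, hQ.isPrime⟩ : PrimeSpectrum C)))
    exact hPQ (hQ.isPrime.mem_of_pow_mem M (hle (Ideal.subset_span ⟨P, hP, rfl⟩)))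
  have hV : V = ⊤ := by
    refine eq_top_iff.2 fun y _ => ?_
    have h1 : (1 : C) ∈ Ideal.span ((fun P => r P ^ M) '' (t : Set (PrimeSpectrum C))) :=
      htop ▸ Submodule.mem_top
    have h2 : ∀ c ∈ Ideal.span ((fun P => r P ^ M) '' (t : Set (PrimeSpectrum C))),
        ∀ y : F, inc c * y ∈ V := by
      intro c hc
      refine Submodule.span_induction (fun z hz y => ?_) (fun y => by rw [map_zero, zero_mul]; exact zero_mem _)
        (fun a d _ _ ha hd y => by rw [map_add, add_mul]; exact add_mem (ha y) (hd y))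
        (fun a z _ hz y => by
          rw [smul_eq_mul, map_mul, mul_comm (inc a), mul_assoc]
          exact hz _) hc
      obtain ⟨P, hP, rfl⟩ := hz
      exact hspan P hP y
    have h3 := h2 1 h1 y
    rwa [map_one, _root_.one_mul] at h3
  rw [← finrank_top K F, ← hV]
  refine (finrank_span_finset_le_card _).trans ?_
  exact Finset.card_image_le.trans Finset.card_biUnion_le

end Groth.L25.MonoNhd

namespace Groth.L25.MonoNhd

variable {R C : Type u} [CommRing R] [CommRing C] [HopfAlgebra R C]

theorem counit_powConv (n : ℕ) (x : C) :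
    Coalgebra.counit (R := R) (SGA3b.powConv R C n x) = Coalgebra.counit (R := R) x := by
  induction n generalizing x with
  | zero =>
    rw [MultType.powConv_zero, AlgHom.comp_apply]
    exact Bialgebra.counit_algebraMap _
  | succ n ih =>
    rw [MultType.powConv_succ_apply]
    conv_rhs => rw [← one_smul R x, ← TensorProduct.lid_tmul x (1 : R),
      ← Coalgebra.rTensor_counit_comul (R := R) x]
    induction Coalgebra.comul (R := R) x using TensorProduct.induction_on with
    | zero => simp
    | add p q hp hq => simp only [map_add, hp, hq]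
    | tmul p q => simp [ih]

/-- the projection onto the augmentation ideal -/
noncomputable def proj : C →ₗ[R] RingHom.ker (Bialgebra.counitAlgHom R C) where
  toFun b := ⟨b - algebraMap R C (Bialgebra.counitAlgHom R C b), by
    rw [RingHom.mem_ker, map_sub, AlgHom.commutes]
    exact sub_self _⟩
  map_add' a b := Subtype.ext (by
    show a + b - algebraMap R C (Bialgebra.counitAlgHom R C (a + b)) =
      (a - algebraMap R C (Bialgebra.counitAlgHom R C a)) + (b - algebraMap R C (Bialgebra.counitAlgHom R C b))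
    rw [map_add, map_add]
    ring)
  map_smul' r b := Subtype.ext (by
    show r • b - algebraMap R C (Bialgebra.counitAlgHom R C (r • b)) =
      r • (b - algebraMap R C (Bialgebra.counitAlgHom R C b))
    rw [map_smul, smul_sub, smul_eq_mul, map_mul, Algebra.smul_def r (algebraMap R C _)])

theorem proj_coe (b : C) : ((proj (R := R) b : RingHom.ker (Bialgebra.counitAlgHom R C)) : C) =
    b - algebraMap R C (Coalgebra.counit (R := R) b) := rfl

theorem proj_of_mem {z : C} (hz : z ∈ RingHom.ker (Bialgebra.counitAlgHom R C)) :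
    proj (R := R) z = ⟨z, hz⟩ := Subtype.ext (by
  rw [proj_coe, show Coalgebra.counit (R := R) z = 0 from hz, map_zero, sub_zero])

/-- the class of `x - ε x` in the cotangent space at the unit -/
noncomputable def dlog : C →ₗ[R] (RingHom.ker (Bialgebra.counitAlgHom R C)).Cotangent :=
  ((RingHom.ker (Bialgebra.counitAlgHom R C)).toCotangent.restrictScalars R) ∘ₗ proj

theorem dlog_of_mem {z : C} (hz : z ∈ RingHom.ker (Bialgebra.counitAlgHom R C)) :
    dlog (R := R) z = (RingHom.ker (Bialgebra.counitAlgHom R C)).toCotangent ⟨z, hz⟩ :=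
  congrArg _ (proj_of_mem hz)

theorem dlog_mul (x y : C) : dlog (R := R) (x * y) =
    Coalgebra.counit (R := R) x • dlog y + Coalgebra.counit (R := R) y • dlog x := by
  simp only [dlog, LinearMap.comp_apply]
  let L := (RingHom.ker (Bialgebra.counitAlgHom R C)).toCotangent.restrictScalars R
  change L (proj (x * y)) = Coalgebra.counit (R := R) x • L (proj y) + Coalgebra.counit (R := R) y • L (proj x)
  rw [← L.map_smul, ← L.map_smul, ← L.map_add]
  refine (Ideal.toCotangent_eq _).2 ?_
  rw [pow_two]
  show (x * y - algebraMap R C (Coalgebra.counit (R := R) (x * y))) -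
    (Coalgebra.counit (R := R) x • (y - algebraMap R C (Coalgebra.counit (R := R) y)) +
     Coalgebra.counit (R := R) y • (x - algebraMap R C (Coalgebra.counit (R := R) x))) ∈ _
  rw [Bialgebra.counit_mul, map_mul, Algebra.smul_def, Algebra.smul_def]
  generalize ha : algebraMap R C (Coalgebra.counit (R := R) x) = a
  generalize hb : algebraMap R C (Coalgebra.counit (R := R) y) = b
  rw [show x * y - a * b - (a * (y - b) + b * (x - a)) = (x - a) * (y - b) by ring]
  exact Ideal.mul_mem_mul (ha ▸ (proj (R := R) x).2) (hb ▸ (proj (R := R) y).2)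

theorem dlog_powConv (n : ℕ) (x : C) : dlog (R := R) (SGA3b.powConv R C n x) = n • dlog (R := R) x := by
  induction n generalizing x with
  | zero =>
    rw [MultType.powConv_zero, AlgHom.comp_apply, zero_smul]
    simp only [dlog, LinearMap.comp_apply]
    refine (congrArg _ (Subtype.ext ?_)).trans (map_zero _)
    rw [proj_coe]
    simp [Algebra.ofId_apply]
  | succ n ih =>
    rw [MultType.powConv_succ_apply]
    have key : ∀ z : C ⊗[R] C, dlog (R := R) (LinearMap.mul' R C (TensorProduct.map
        (SGA3b.powConv R C n).toLinearMap LinearMap.id z)) =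
        dlog (R := R) (TensorProduct.lid R C ((Coalgebra.counit (R := R)).rTensor C z)) +
        n • dlog (R := R) (TensorProduct.rid R C ((Coalgebra.counit (R := R)).lTensor C z)) := by
      intro z
      induction z using TensorProduct.induction_on with
      | zero => simp
      | add p q hp hq => simp only [map_add, hp, hq, smul_add]; abel
      | tmul p q =>
        rw [TensorProduct.map_tmul, LinearMap.mul'_apply, LinearMap.id_apply,
          AlgHom.toLinearMap_apply, dlog_mul, counit_powConv, ih, LinearMap.rTensor_tmul,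
          LinearMap.lTensor_tmul, TensorProduct.lid_tmul, TensorProduct.rid_tmul, map_smul, map_smul,
          smul_comm]
    rw [key, Coalgebra.rTensor_counit_comul, Coalgebra.lTensor_counit_comul, TensorProduct.lid_tmul,
      TensorProduct.rid_tmul, one_smul, succ_nsmul, add_comm]

/-- killed by `n` over every residue field, hence killed by a multiple -/
theorem exists_killed_of_fibres [Algebra.FinitePresentation R C] [Coalgebra.IsCocomm R C] (n₀ : ℕ)
    (hn₀ : 0 < n₀) (h : ∀ (p : Ideal R) [p.IsPrime] (x : C),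
      ((1 : p.ResidueField) ⊗ₜ[R] SGA3b.powConv R C n₀ x : p.Fiber C) =
        (1 : p.ResidueField) ⊗ₜ[R] algebraMap R C (Coalgebra.counit (R := R) x)) :
    ∃ n : ℕ, 0 < n ∧ ∀ c : C, SGA3b.powConv R C n c = algebraMap R C (Coalgebra.counit (R := R) c) := by
  classical
  let I := RingHom.ker (Bialgebra.counitAlgHom R C)
  let f := SGA3b.powConv R C n₀
  let a := SGA3b.torsionIdeal R C n₀
  have hI : I.FG := Algebra.FinitePresentation.ker_fG_of_surjective (Bialgebra.counitAlgHom R C)
    fun r => ⟨algebraMap R C r, by simp⟩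
  have hmem : ∀ x, f x - algebraMap R C (Coalgebra.counit (R := R) x) ∈ a :=
    MultType.torsionIdeal_le_iff.1 le_rfl
  have hafg : a.FG := hI.map _
  obtain ⟨N, hN⟩ : IsNilpotent a := by
    refine hafg.isNilpotent_iff_le_nilradical.2 (MultType.torsionIdeal_le_iff.2 fun x => ?_)
    rw [nilradical_eq_sInf]
    refine Ideal.mem_sInf.2 fun {Q} (hQ : Q.IsPrime) => ?_
    let p : Ideal R := Q.comap (algebraMap R C)
    let π : C →ₐ[R] Q.ResidueField := IsScalarTower.toAlgHom R C Q.ResidueField
    let g : p.ResidueField →ₐ[R] Q.ResidueField :=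
      Ideal.ResidueField.liftₐ p (Algebra.ofId R Q.ResidueField)
        (fun r hr => by
          show algebraMap R Q.ResidueField r = 0
          rw [IsScalarTower.algebraMap_apply R C Q.ResidueField]
          exact Ideal.algebraMap_residueField_eq_zero.2 hr)
        (fun r hr => Ne.isUnit (by
          show algebraMap R Q.ResidueField r ≠ 0
          rw [IsScalarTower.algebraMap_apply R C Q.ResidueField]
          exact fun h0 => hr ((Ideal.algebraMap_residueField_eq_zero (I := Q)).1 h0)))
    have h1 := congrArg (Algebra.TensorProduct.lift g π fun _ _ => Commute.all _ _) (h p x)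
    rw [Algebra.TensorProduct.lift_tmul, Algebra.TensorProduct.lift_tmul, map_one, _root_.one_mul,
      _root_.one_mul, ← sub_eq_zero, ← map_sub] at h1
    exact Ideal.algebraMap_residueField_eq_zero.1 h1
  -- away from `n₀` the cotangent space at the unit vanishes
  have hfin : Module.Finite R I.Cotangent := by
    obtain ⟨t, ht⟩ := hI
    refine ⟨⟨t.image (dlog (R := R)), ?_⟩⟩
    rw [eq_top_iff]
    rintro z -
    obtain ⟨⟨z, hz⟩, rfl⟩ := I.toCotangent_surjective z
    have hd : dlog (R := R) z = I.toCotangent ⟨z, hz⟩ := dlog_of_mem hz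
    rw [← hd]
    have hz' : z ∈ Ideal.span (t : Set C) := ht.symm ▸ hz
    refine Submodule.span_induction (fun y hy => Submodule.subset_span
      (Finset.mem_coe.2 (Finset.mem_image_of_mem _ hy))) (by rw [map_zero]; exact zero_mem _)
      (fun x y _ _ hx hy => by rw [map_add]; exact add_mem hx hy) (fun b y hy ih => ?_) hz'
    have hy0 : Coalgebra.counit (R := R) y = 0 := by
      have : y ∈ I := ht ▸ hy
      exact this
    rw [smul_eq_mul, dlog_mul, hy0, zero_smul, add_zero]
    exact Submodule.smul_mem _ _ ih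
  obtain ⟨k, hk⟩ : (n₀ : R) ∈ (Module.annihilator R I.Cotangent).radical := by
    rw [Ideal.radical_eq_sInf]
    refine Ideal.mem_sInf.2 fun {p} hp => ?_
    have := hp.2
    by_contra hn
    have hsupp : (⟨p, hp.2⟩ : PrimeSpectrum R) ∈ Module.support R I.Cotangent := by
      rw [Module.support_eq_zeroLocus]
      exact hp.1
    rw [Module.mem_support_iff_nontrivial_residueField_tensorProduct] at hsupp
    refine not_subsingleton_iff_nontrivial.2 hsupp (subsingleton_of_forall_eq 0 fun z => ?_)
    induction z using TensorProduct.induction_on with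
    | zero => rfl
    | add x y hx hy => rw [hx, hy, add_zero]
    | tmul c w =>
      obtain ⟨⟨w, hw⟩, rfl⟩ := I.toCotangent_surjective w
      have h1 := congrArg (LinearMap.lTensor p.ResidueField (dlog (R := R) (C := C))) (h p w)
      have hw0 : Coalgebra.counit (R := R) w = 0 := hw
      rw [hw0, map_zero, TensorProduct.tmul_zero, map_zero, LinearMap.lTensor_tmul, dlog_powConv] at h1
      have hd : dlog (R := R) w = I.toCotangent ⟨w, hw⟩ := dlog_of_mem hw
      rw [hd, ← Nat.cast_smul_eq_nsmul R, TensorProduct.tmul_smul] at h1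
      have hu : IsUnit (algebraMap R p.ResidueField (n₀ : R)) :=
        Ne.isUnit fun h0 => hn (Ideal.algebraMap_residueField_eq_zero.1 h0)
      obtain ⟨v, hv⟩ := hu
      have h2 : (c ⊗ₜ[R] I.toCotangent ⟨w, hw⟩ : p.ResidueField ⊗[R] I.Cotangent) =
          (c * ↑v⁻¹) • ((n₀ : R) • ((1 : p.ResidueField) ⊗ₜ[R] I.toCotangent ⟨w, hw⟩)) := by
        rw [TensorProduct.smul_tmul', TensorProduct.smul_tmul', smul_eq_mul, Algebra.smul_def,
          _root_.mul_one, ← hv, mul_assoc, Units.inv_mul, _root_.mul_one]
      rw [h2, h1, smul_zero]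
  have hk' : ∀ x ∈ I, ((n₀ : C) ^ k) * x ∈ I * I := by
    intro x hx
    rw [← pow_two, ← I.toCotangent_eq_zero ⟨_, I.mul_mem_left _ hx⟩]
    have h1 := Module.mem_annihilator.1 hk (I.toCotangent ⟨x, hx⟩)
    rw [← LinearMap.map_smul_of_tower] at h1
    refine (congrArg _ (Subtype.ext ?_)).trans h1
    show _ = ((n₀ : R) ^ k) • x
    rw [Algebra.smul_def, map_pow, map_natCast]
  have hIj : ∀ j, ∀ x ∈ I, ((n₀ : C) ^ (k * j)) * x ∈ I ^ (j + 1) := by
    intro j
    induction j with
    | zero => intro x hx; simpa using hx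
    | succ j ih =>
      intro x hx
      have h1 : Ideal.span {(n₀ : C) ^ k} * I ^ (j + 1) ≤ I ^ (j + 2) := by
        rw [pow_succ' I j, ← mul_assoc, show j + 2 = 2 + j by ring, pow_add, pow_two]
        refine Ideal.mul_mono_left (Ideal.span_singleton_mul_le_iff.2 hk')
      rw [show ((n₀ : C) ^ (k * (j + 1))) * x = (n₀ : C) ^ k * ((n₀ : C) ^ (k * j) * x) by ring]
      exact h1 (Ideal.mul_mem_mul (Ideal.mem_span_singleton_self _) (ih x hx))
  -- a power of `n₀` kills the torsion ideal
  have hkill : ∀ y ∈ a, ((n₀ : C) ^ (k * N)) * y = 0 := by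
    intro y hy
    refine Submodule.span_induction (fun z hz => ?_) (mul_zero _)
      (fun p q _ _ hp hq => by rw [mul_add, hp, hq, add_zero])
      (fun b z _ hz => by rw [smul_eq_mul, mul_left_comm, hz, mul_zero]) hy
    obtain ⟨x, hx, rfl⟩ := hz
    have h1 : f (((n₀ : C) ^ (k * N)) * x) ∈ a ^ (N + 1) := by
      show _ ∈ (I.map f) ^ (N + 1)
      rw [← Ideal.map_pow]
      exact Ideal.mem_map_of_mem _ (hIj N x hx)
    rw [pow_succ, hN, Ideal.zero_eq_bot, Ideal.bot_mul, Ideal.mem_bot, map_mul, map_pow, map_natCast] at h1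
    exact h1
  let c := k * N
  let M := n₀ ^ c * N.factorial
  refine ⟨n₀ * M, Nat.mul_pos hn₀ (Nat.mul_pos (pow_pos hn₀ _) N.factorial_pos), fun x => ?_⟩
  let ν : WithConv (C →ₗ[R] C) := toConv f.toLinearMap - 1
  have hν : ∀ x, ν x ∈ a := fun x => hmem x
  have hνk : ∀ i, ∀ x, (ν ^ i) x ∈ a ^ i := by
    intro i
    induction i with
    | zero => intro x; simp
    | succ i ih =>
      intro x
      rw [pow_succ ν, pow_succ a, LinearMap.convMul_apply]
      induction Coalgebra.comul (R := R) x using TensorProduct.induction_on with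
      | zero => simp
      | add p q hp hq => simpa only [map_add] using add_mem hp hq
      | tmul p q => exact Ideal.mul_mem_mul (ih p) (hν q)
  have h0 : SGA3b.powConv R C (n₀ * M) = ((toConv f : WithConv (C →ₐ[R] C)) ^ M).ofConv := by
    show ((toConv (AlgHom.id R C) : WithConv (C →ₐ[R] C)) ^ (n₀ * M)).ofConv = _
    rw [pow_mul]
    rfl
  have h1 : (toConv (SGA3b.powConv R C (n₀ * M)).toLinearMap : WithConv (C →ₗ[R] C)) = (ν + 1) ^ M := by
    rw [h0, AlgHom.toLinearMap_convPow]
    congr 1
    exact (sub_add_cancel _ _).symm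
  have h2 : (ν + 1) ^ M = 1 := by
    rw [(Commute.one_right ν).add_pow, Finset.sum_eq_single 0]
    · simp
    · intro i hi hi0
      rw [one_pow, _root_.mul_one]
      rcases le_or_gt N i with hiN | hiN
      · have : ν ^ i = 0 := WithConv.ext (LinearMap.ext fun y => by
          have h3 := Ideal.pow_le_pow_right hiN (hνk i y)
          rw [hN] at h3
          exact h3)
        rw [this, zero_mul]
      · obtain ⟨q, hq⟩ : n₀ ^ c ∣ M.choose i := by
          obtain ⟨i, rfl⟩ := Nat.exists_eq_succ_of_ne_zero hi0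
          obtain ⟨d, hd⟩ := Nat.dvd_factorial i.succ_pos hiN.le
          refine ⟨d * (M - 1).choose i, Nat.eq_of_mul_eq_mul_left i.succ_pos ?_⟩
          have hM : M - 1 + 1 = M := Nat.succ_pred_eq_of_pos (Nat.mul_pos (pow_pos hn₀ _) N.factorial_pos)
          have h4 := Nat.add_one_mul_choose_eq (M - 1) i
          rw [hM] at h4
          rw [mul_comm, ← h4]
          show n₀ ^ c * N.factorial * _ = _
          rw [hd]
          ring
        refine WithConv.ext (LinearMap.ext fun y => ?_)
        have h3 : ((ν ^ i) * (M.choose i : WithConv (C →ₗ[R] C))) = M.choose i • (ν ^ i) := by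
          rw [nsmul_eq_mul, Nat.cast_comm]
        rw [h3]
        show M.choose i • (ν ^ i) y = 0
        rw [nsmul_eq_mul, hq, Nat.cast_mul, Nat.cast_pow, mul_comm ((n₀ : C) ^ c) (q : C), mul_assoc,
          hkill _ (Ideal.pow_le_self hi0 (hνk i y)), mul_zero]
    · intro h; exact absurd (Finset.mem_range.2 (Nat.succ_pos M)) h
  have h3 := congrArg (fun z : WithConv (C →ₗ[R] C) => z x) (h1.trans h2)
  exact h3

/-- a commutative quasi-finite group of finite presentation is killed by an integer -/
theorem exists_killed [Algebra.FinitePresentation R C] [Coalgebra.IsCocomm R C]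
    [Algebra.QuasiFinite R C] :
    ∃ n : ℕ, 0 < n ∧ ∀ c : C, SGA3b.powConv R C n c = algebraMap R C (Coalgebra.counit (R := R) c) := by
  obtain ⟨N, hN⟩ := exists_bound (R := R) (C := C)
  refine exists_killed_of_fibres N.factorial N.factorial_pos fun p _ x => ?_
  let K := p.ResidueField
  let d := Module.finrank K (K ⊗[R] C)
  have : Module.Finite K (K ⊗[R] C) := inferInstanceAs (Module.Finite K (p.Fiber C))
  have : Nontrivial (K ⊗[R] C) := (Bialgebra.counitAlgHom K (K ⊗[R] C)).toRingHom.domain_nontrivial
  obtain ⟨e, he⟩ := Nat.dvd_factorial (Module.finrank_pos : 0 < d) (hN p)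
  have h1 : SGA3b.powConv K (K ⊗[R] C) N.factorial =
      (1 : WithConv (K ⊗[R] C →ₐ[K] K ⊗[R] C)).ofConv := by
    show ((toConv (AlgHom.id K (K ⊗[R] C)) : WithConv (K ⊗[R] C →ₐ[K] K ⊗[R] C)) ^ N.factorial).ofConv = _
    rw [he, pow_mul]
    refine congrArg WithConv.ofConv ?_
    rw [show (toConv (AlgHom.id K (K ⊗[R] C)) : WithConv (K ⊗[R] C →ₐ[K] K ⊗[R] C)) ^ d = 1 from
      OrderKills.convPow_id_finrank K (K ⊗[R] C), one_pow]
  have h2 := DFunLike.congr_fun h1 ((1 : K) ⊗ₜ[R] x)
  rw [MultType.powConv_baseChange] at h2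
  refine h2.trans ?_
  show algebraMap K (K ⊗[R] C) (Coalgebra.counit (R := K) ((1 : K) ⊗ₜ[R] x)) = _
  rw [TensorProduct.counit_tmul, CommSemiring.counit_apply, Algebra.TensorProduct.algebraMap_apply,
    Algebra.algebraMap_self_apply, Algebra.algebraMap_eq_smul_one, TensorProduct.tmul_smul,
    TensorProduct.smul_tmul', Algebra.smul_def, _root_.mul_one, Algebra.algebraMap_eq_smul_one]

end Groth.L25.MonoNhd
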