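import Groth.Agent.L25.MonoNhd.QFKilled
import Groth.Agent.L25.MultType.Torsion
import Mathlib.FieldTheory.IsAlgClosed.AlgebraicClosure
import Mathlib.RingTheory.Finiteness.Descent
import Mathlib.RingTheory.HopfAlgebra.Quotient
import Mathlib.RingTheory.Jacobson.Ring
import Mathlib.RingTheory.Nullstellensatz
import Mathlib.RingTheory.Ideal.MinimalPrime.Noetherian

/-!
# Groups over a local ring with finite closed fibre are quasi-finite
-/

set_option autoImplicit false
universe u

open TensorProduct WithConv

namespace Groth.L25.MonoNhd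

open OrderKills

/-- a group of finite type over an algebraically closed field which is quasi-finite at the unit
is finite -/
theorem finite_of_qfAt_unit {K F : Type u} [Field K] [IsAlgClosed K] [CommRing F] [HopfAlgebra K F]
    [Algebra.FiniteType K F] [(RingHom.ker (Bialgebra.counitAlgHom K F)).IsPrime]
    (h : Algebra.QuasiFiniteAt K (RingHom.ker (Bialgebra.counitAlgHom K F))) : Module.Finite K F := by
  have hmax : ∀ (P : Ideal F) [P.IsPrime], P.IsMaximal := by
    intro P _
    obtain ⟨m, hm, hPm⟩ := P.exists_le_maximal Ideal.IsPrime.ne_top'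
    have := hm
    letI := Ideal.Quotient.field m
    have : Algebra.FiniteType K (F ⧸ m) :=
      .of_surjective (Ideal.Quotient.mkₐ K m) (Ideal.Quotient.mkₐ_surjective K m)
    have : Module.Finite K (F ⧸ m) := finite_of_finite_type_of_isJacobsonRing K (F ⧸ m)
    let e : K ≃ₐ[K] F ⧸ m := AlgEquiv.ofBijective (Algebra.ofId K (F ⧸ m))
      IsAlgClosed.algebraMap_bijective_of_isIntegral
    let χ : WithConv (F →ₐ[K] K) := toConv (e.symm.toAlgHom.comp (Ideal.Quotient.mkₐ K m))
    let t : WithConv (F →ₐ[K] K) → (F →ₐ[K] F) := fun g =>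
      (idc * postHom (Algebra.ofId K F) g).ofConv
    have hcomp : ∀ (φ : F →ₐ[K] K) (g : WithConv (F →ₐ[K] K)),
        φ.comp (t g) = (toConv φ * g).ofConv := by
      intro φ g
      have h1 := map_mul (postHom φ) idc (postHom (Algebra.ofId K F) g)
      have h2 : postHom φ (postHom (Algebra.ofId K F) g) = g := by
        refine WithConv.ext (AlgHom.ext fun a => ?_)
        exact (φ.commutes _).trans (Algebra.algebraMap_self_apply _)
      rw [h2] at h1
      exact congrArg WithConv.ofConv h1
    have htt : ∀ g g' : WithConv (F →ₐ[K] K), (t g').comp (t g) = t (g' * g) := by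
      intro g g'
      have h1 := map_mul (postHom (t g')) idc (postHom (Algebra.ofId K F) g)
      have h2 : postHom (t g') (postHom (Algebra.ofId K F) g) = postHom (Algebra.ofId K F) g := by
        refine WithConv.ext (AlgHom.ext fun a => ?_)
        exact (t g').commutes _
      rw [h2] at h1
      refine (congrArg WithConv.ofConv h1).trans ?_
      show (idc * postHom (Algebra.ofId K F) g' * postHom (Algebra.ofId K F) g).ofConv = _
      rw [mul_assoc, ← map_mul]
    have ht1 : t 1 = AlgHom.id K F := by
      show (idc * postHom (Algebra.ofId K F) (1 : WithConv (F →ₐ[K] K))).ofConv = _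
      rw [map_one, mul_one]
    let σ : F ≃ₐ[K] F := AlgEquiv.ofAlgHom (t χ) (t χ⁻¹)
      (by rw [htt, mul_inv_cancel, ht1]) (by rw [htt, inv_mul_cancel, ht1])
    have hmσ : m = (RingHom.ker (Bialgebra.counitAlgHom K F)).comap σ.toRingHom := by
      have h1 : (Bialgebra.counitAlgHom K F).comp (t χ) = χ.ofConv := by
        rw [hcomp, show toConv (Bialgebra.counitAlgHom K F) = 1 from rfl, _root_.one_mul]
      ext x
      rw [Ideal.mem_comap, RingHom.mem_ker]
      show _ ↔ ((Bialgebra.counitAlgHom K F).comp (t χ)) x = 0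
      rw [h1]
      show _ ↔ e.symm (Ideal.Quotient.mk m x) = 0
      rw [map_eq_zero_iff _ e.symm.injective, Ideal.Quotient.eq_zero_iff_mem]
    have hle : P.comap (↑σ.symm : F →+* F) ≤ RingHom.ker (Bialgebra.counitAlgHom K F) := by
      intro x hx
      have h2 := hPm hx
      rw [hmσ, Ideal.mem_comap] at h2
      simpa using h2
    have hu : (P.comap (↑σ.symm : F →+* F)).under K =
        (RingHom.ker (Bialgebra.counitAlgHom K F)).under K := by
      have hb : ∀ I : Ideal F, I ≠ ⊤ → I.under K = ⊥ := fun I hI =>
        ((Ideal.eq_bot_or_top (I.under K)).resolve_right fun h0 => hI (Ideal.eq_top_iff_one _ |>.2 (by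
          have : (1 : K) ∈ I.under K := h0 ▸ Submodule.mem_top
          simpa [Ideal.under] using this)))
      rw [hb _ Ideal.IsPrime.ne_top', hb _ Ideal.IsPrime.ne_top']
    have heq := Algebra.QuasiFiniteAt.eq_of_le_of_under_eq (R := K) hle hu
    have : P = m := by
      rw [hmσ, ← heq, Ideal.comap_comap]
      ext x
      simp
    exact this ▸ hm
  have : IsNoetherianRing F := Algebra.FiniteType.isNoetherianRing K F
  have : Finite (PrimeSpectrum F) := by
    have h1 : Set.Finite (minimalPrimes F) := minimalPrimes.finite_of_isNoetherianRing F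
    have := h1.to_subtype
    refine Finite.of_surjective (α := minimalPrimes F)
      (fun Q => (⟨Q.1, Ideal.IsMinimalPrime.isPrime Q.2⟩ : PrimeSpectrum F)) fun P => ?_
    obtain ⟨Q, hQ, hQP⟩ := Ideal.exists_minimalPrimes_le (J := P.asIdeal) bot_le
    have := Ideal.IsMinimalPrime.isPrime hQ
    exact ⟨⟨Q, hQ⟩, PrimeSpectrum.ext ((hmax Q).eq_of_le P.2.ne_top hQP)⟩
  have : Algebra.QuasiFinite K F :=
    Algebra.QuasiFinite.iff_finite_comap_preimage_singleton.2 fun _ => Set.toFinite _
  exact Module.Finite.of_quasiFinite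

variable {R B : Type u} [CommRing R] [IsLocalRing R] [CommRing B] [HopfAlgebra R B]
  [Algebra.FiniteType R B]

/-- a group over a local ring with finite closed fibre is quasi-finite -/
theorem quasiFinite_of_closedFibre
    (hs : Module.Finite (IsLocalRing.ResidueField R) (IsLocalRing.ResidueField R ⊗[R] B)) :
    Algebra.QuasiFinite R B := by
  let m := IsLocalRing.maximalIdeal R
  let ε := Bialgebra.counitAlgHom R B
  let P₀ : Ideal B := m.comap ε
  have : P₀.IsPrime := Ideal.comap_isPrime _ _
  have hm : Module.Finite m.ResidueField (m.Fiber B) := by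
    let g : IsLocalRing.ResidueField R →+* m.ResidueField :=
      Ideal.Quotient.lift m (algebraMap R m.ResidueField) fun r hr =>
        Ideal.algebraMap_residueField_eq_zero.2 hr
    letI : Algebra (IsLocalRing.ResidueField R) m.ResidueField := g.toAlgebra
    haveI : IsScalarTower R (IsLocalRing.ResidueField R) m.ResidueField :=
      IsScalarTower.of_algebraMap_eq fun r => rfl
    exact Module.Finite.equiv
      (Algebra.TensorProduct.cancelBaseChange R (IsLocalRing.ResidueField R) m.ResidueField
        m.ResidueField B).toLinearEquiv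
  have hP₀m : P₀.comap (algebraMap R B) = m := by
    ext r
    simp [P₀, ε]
  have : P₀.LiesOver m := ⟨hP₀m.symm⟩
  let Q₀ := PrimeSpectrum.primesOverOrderIsoFiber R B m ⟨P₀, inferInstance, inferInstance⟩
  have : Algebra.QuasiFinite m.ResidueField (m.Fiber B) := inferInstance
  have : Algebra.QuasiFiniteAt R P₀ :=
    Algebra.QuasiFiniteAt.of_quasiFiniteAt_residueField m P₀ Q₀.asIdeal
      congr($((PrimeSpectrum.primesOverOrderIsoFiber R B m).symm_apply_apply
        ⟨P₀, inferInstance, inferInstance⟩).1)
  obtain ⟨r, hr, hrint, hrx⟩ :=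
    Algebra.zariskisMainProperty_iff.1 (Algebra.ZariskisMainProperty.of_finiteType (R := R) P₀)
  refine ⟨fun p _ => ?_⟩
  let κ := p.ResidueField
  let K := AlgebraicClosure κ
  let Pp : Ideal B := p.comap ε
  have : Pp.IsPrime := Ideal.comap_isPrime _ _
  have hrp : r ∉ Pp := fun h => hr (IsLocalRing.le_maximalIdeal Ideal.IsPrime.ne_top' h)
  have : Algebra.QuasiFiniteAt R Pp :=
    Algebra.ZariskisMainProperty.quasiFiniteAt Pp (Algebra.zariskisMainProperty_iff.2 ⟨r, hrp, hrint, hrx⟩)
  have : (RingHom.ker (Bialgebra.counitAlgHom K (K ⊗[R] B))).IsPrime := RingHom.ker_isPrime _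
  have hQ : Algebra.QuasiFiniteAt K (RingHom.ker (Bialgebra.counitAlgHom K (K ⊗[R] B))) := by
    refine Algebra.QuasiFiniteAt.baseChange Pp _ ?_
    ext x
    show ε x ∈ p ↔ _
    show ε x ∈ p ↔ Coalgebra.counit (R := K) ((1 : K) ⊗ₜ[R] x) = 0
    rw [TensorProduct.counit_tmul, CommSemiring.counit_apply, Algebra.smul_def, _root_.mul_one,
      IsScalarTower.algebraMap_apply R κ K, map_eq_zero_iff _ (algebraMap κ K).injective,
      Ideal.algebraMap_residueField_eq_zero]
    rfl
  have hK : Module.Finite K (K ⊗[R] B) := finite_of_qfAt_unit hQ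
  have : Module.Finite K (K ⊗[κ] (κ ⊗[R] B)) := Module.Finite.equiv
    (Algebra.TensorProduct.cancelBaseChange R κ K K B).toLinearEquiv.symm
  exact Module.Finite.of_finite_tensorProduct_of_faithfullyFlat K (M := κ ⊗[R] B)

omit [IsLocalRing R] [Algebra.FiniteType R B] in
theorem isCocomm_of_surjective {A : Type u} [CommRing A] [HopfAlgebra R A] [Coalgebra.IsCocomm R A]
    (f : A →ₐc[R] B) (hf : Function.Surjective f) : Coalgebra.IsCocomm R B := by
  refine ⟨LinearMap.ext fun b => ?_⟩
  obtain ⟨a, rfl⟩ := hf b
  rw [LinearMap.comp_apply, LinearEquiv.coe_coe, ← CoalgHomClass.map_comp_comul_apply f a]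
  conv_rhs => rw [← Coalgebra.comm_comul R a]
  induction Coalgebra.comul (R := R) a using TensorProduct.induction_on with
  | zero => simp
  | add x y hx hy => simp only [map_add, hx, hy]
  | tmul x y => simp

end Groth.L25.MonoNhd
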